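import Groth.Agent.Lib.QuadSubfield28.Main
import Groth.Agent.Lib.CurveMult.GenEtale
import Groth.Agent.Lib.CurveMult.HyperAff
import Groth.Agent.Lib.HodgeProper12.Model
import Groth.Agent.Lib.FunFld.SemiTransfer

/-!
# The function field of the base of a double cover
-/

set_option autoImplicit false
set_option linter.style.haveILetI false
set_option backward.isDefEq.respectTransparency false

universe u

open CategoryTheory CategoryTheory.Limits AlgebraicGeometry
open GrothLib.CurveRR GrothLib.CurveMult

noncomputable section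

namespace GrothLib.QuadSubfield28

theorem bijective_stalkSpecializes {X : Scheme.{u}} {x y : X} (e : x = y) :
    Function.Bijective (X.presheaf.stalkSpecializes (specializes_of_eq e)).hom := by
  subst e
  rw [TopCat.Presheaf.stalkSpecializes_refl]
  exact Function.bijective_id

/-- The degree of the extension of function fields is the residue degree at the generic point. -/
theorem finrank_ψ {X Y : Scheme.{u}} [IsIntegral X] [IsIntegral Y] (f : X ⟶ Y)
    (e : f (genericPoint X) = genericPoint Y) :
    (letI := (Hurwitz.ψ e).toAlgebra; Module.finrank Y.functionField X.functionField) =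
      f.residueDegree (genericPoint X) := by
  letI := (Hurwitz.ψ e).toAlgebra
  letI := (f.residueFieldMap (genericPoint X)).hom.toAlgebra
  letI : Field (X.presheaf.stalk (genericPoint X)) := inferInstanceAs (Field X.functionField)
  letI : Field (Y.presheaf.stalk (genericPoint Y)) := inferInstanceAs (Field Y.functionField)
  have hs := bijective_stalkSpecializes (X := Y) e
  let i : Y.functionField →+* Y.residueField (f (genericPoint X)) :=
    (Y.residue (f (genericPoint X))).hom.comp (Y.presheaf.stalkSpecializes (specializes_of_eq e)).hom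
  let j : X.functionField →+* X.residueField (genericPoint X) := (X.residue (genericPoint X)).hom
  have hi : Function.Bijective i := ⟨i.injective, (Y.residue_surjective _).comp hs.2⟩
  have hj : Function.Bijective j := ⟨j.injective, X.residue_surjective _⟩
  refine Algebra.finrank_eq_of_equiv_equiv (RingEquiv.ofBijective i hi) (RingEquiv.ofBijective j hj) ?_
  refine RingHom.ext fun r => ?_
  exact ConcreteCategory.congr_hom (Scheme.residue_residueFieldMap f (genericPoint X))
    ((Y.presheaf.stalkSpecializes (specializes_of_eq e)) r)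

/-- The pullback of function fields as a map of algebras. -/
def ψAlg (k : Type u) [Field k] {X Y : Scheme.{u}} [IsIntegral X] [IsIntegral Y]
    [X.Over (Spec (CommRingCat.of k))] [Y.Over (Spec (CommRingCat.of k))]
    [IsProper (X ↘ Spec (CommRingCat.of k))] [IsProper (Y ↘ Spec (CommRingCat.of k))] [RegCurve X] [RegCurve Y]
    {f : X ⟶ Y}
    (hf : f ≫ (Y ↘ Spec (CommRingCat.of k)) = X ↘ Spec (CommRingCat.of k))
    (e : f (genericPoint X) = genericPoint Y) : Y.functionField →ₐ[k] X.functionField :=
  { Hurwitz.ψ e with commutes' := Hurwitz.ψ_algebraMap k e hf }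

open _root_.FunFld GrothLib.FunFld in
/-- A trivial extension does not increase the genus. -/
theorem genus_le_of_surjective {k K K' : Type u} [Field k] [Field K] [Field K'] [Algebra k K] [Algebra k K']
    [Algebra K K'] [IsScalarTower k K K'] [FiniteDimensional K K'] (h : IsFunctionField k K)
    (h' : IsFunctionField k K') (hs : Module.finrank K K' = 1) : genus k K' ≤ genus k K := by
  have hfg : IsFG k K := h.1
  obtain ⟨P⟩ := IsFG.exists_place hfg
  let n : ℕ := 2 * (genus k K + genus k K') + 1
  let D : Divisor k K := Finsupp.single P (n : ℤ)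
  have hdeg : (n : ℤ) ≤ D.deg := by
    rw [deg_single]
    have := IsFG.deg_pos hfg P
    nlinarith
  have hd : (conorm K' D).deg = D.deg := by rw [deg_conorm hfg, hs]; simp
  have h1 := ell_eq_of_deg_ge h (D := D) (by omega)
  have h2 := ell_eq_of_deg_ge h' (D := conorm K' D) (by rw [hd]; omega)
  rw [hd] at h2
  haveI := IsFG.finite_L hfg D
  haveI := IsFG.finite_L (h'.1 : IsFG k K') (conorm K' D)
  let f : _root_.FunFld.L D →ₗ[k] _root_.FunFld.L (conorm K' D) :=
    LinearMap.codRestrict _ ((IsScalarTower.toAlgHom k K K').toLinearMap.comp (_root_.FunFld.L D).subtype)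
      fun a => (DiffLattice.mem_L_conorm_iff (K' := K') hfg).2 fun R Q hQ => by
        show val Q (algebraMap K K' a.1) ≤ _
        rw [show val Q (algebraMap K K' a.1) = val R a.1 ^ ramIdx Q R from ramIdx_spec hQ _]
        refine (pow_le_pow_left' (a.2 R) _).trans_eq ?_
        rw [← WithZero.exp_nsmul]
        simp
  have hf : Function.Injective f := fun a b hab => by
    have h3 := congrArg Subtype.val hab
    exact Subtype.ext ((algebraMap K K').injective h3)
  have h4 : ell D ≤ ell (conorm K' D) := LinearMap.finrank_le_finrank_of_injective hf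
  omega

/-- The facts about the image subfield of a double cover of a genus zero curve. -/
theorem double_cover_data (k : Type u) [Field k] {C P : Scheme.{u}} [IsIntegral C] [IsIntegral P]
    [C.Over (Spec (CommRingCat.of k))] [P.Over (Spec (CommRingCat.of k))]
    [IsProper (C ↘ Spec (CommRingCat.of k))] [IsProper (P ↘ Spec (CommRingCat.of k))] [RegCurve C] [RegCurve P]
    (hC0 : Module.finrank k (Coh.HH C (Coh.structureModule C) 0) = 1)
    (hP0 : Module.finrank k (Coh.HH P (Coh.structureModule P) 0) = 1) (hgP : Curv2.genus k P = 0)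
    (f : C ⟶ P) (hf : f ≫ (P ↘ Spec (CommRingCat.of k)) = C ↘ Spec (CommRingCat.of k))
    [IsFinite f] [Flat f] (hr : ∀ y : P, Scheme.Hom.finrank f y = 2)
    (e : f (genericPoint C) = genericPoint P) :
    _root_.FunFld.IsFunctionField k (ψAlg k hf e).fieldRange ∧
      _root_.FunFld.genus k (ψAlg k hf e).fieldRange = 0 ∧
      Module.finrank (ψAlg k hf e).fieldRange C.functionField = 2 := by
  haveI := Euler.isNoetherian_of_proper (X := P) k
  haveI := Euler.isNoetherian_of_proper (X := C) k
  haveI : LocallyOfFinitePresentation f := inferInstance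
  let φ := ψAlg k hf e
  have hKP := isFunctionField k hP0
  have hKC := isFunctionField k hC0
  obtain ⟨x, hxt, -⟩ := hKP.1
  obtain ⟨hL, -⟩ := GrothLib.FunFld.isFunctionField_intermediateField hKC φ.fieldRange
    ⟨φ x, ⟨x, rfl⟩, fun h => hxt ((isAlgebraic_algHom_iff φ φ.toRingHom.injective).1 h)⟩
  let eq : P.functionField ≃ₐ[k] φ.fieldRange := AlgEquiv.ofInjectiveField φ
  refine ⟨hL, ?_, ?_⟩
  · letI : Algebra P.functionField φ.fieldRange := eq.toRingEquiv.toRingHom.toAlgebra
    haveI : IsScalarTower k P.functionField φ.fieldRange :=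
      IsScalarTower.of_algebraMap_eq fun c => (eq.commutes c).symm
    have hfr : Module.finrank P.functionField φ.fieldRange = 1 := by
      have hb : Function.Bijective (Algebra.linearMap P.functionField φ.fieldRange) := eq.bijective
      rw [← (LinearEquiv.ofBijective _ hb).finrank_eq, Module.finrank_self]
    haveI : FiniteDimensional P.functionField φ.fieldRange := Module.finite_of_finrank_pos (by omega)
    have := genus_le_of_surjective hKP hL hfr
    rw [← CurveRR.genus_eq k hP0, hgP] at this
    exact Nat.le_zero.1 this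
  · have h2 : f.residueDegree (genericPoint C) = 2 :=
      ((generic_finite_flat f e).1 (genericPoint P)).symm.trans (hr _)
    rw [← h2, ← finrank_ψ f e]
    letI := (Hurwitz.ψ e).toAlgebra
    exact (Algebra.finrank_eq_of_equiv_equiv eq.toRingEquiv (RingEquiv.refl _) (RingHom.ext fun _ => rfl)).symm

/-- Two double covers of curves of genus zero by a curve of genus at least two differ by an isomorphism. -/
theorem exists_iso_of_double_covers (k : Type u) [Field k] {C P₁ P₂ : Scheme.{u}}
    [IsIntegral C] [IsIntegral P₁] [IsIntegral P₂]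
    [C.Over (Spec (CommRingCat.of k))] [P₁.Over (Spec (CommRingCat.of k))] [P₂.Over (Spec (CommRingCat.of k))]
    [IsProper (C ↘ Spec (CommRingCat.of k))] [IsProper (P₁ ↘ Spec (CommRingCat.of k))]
    [IsProper (P₂ ↘ Spec (CommRingCat.of k))] [RegCurve C] [RegCurve P₁] [RegCurve P₂]
    (hC0 : Module.finrank k (Coh.HH C (Coh.structureModule C) 0) = 1) (hg : 2 ≤ Curv2.genus k C)
    (h10 : Module.finrank k (Coh.HH P₁ (Coh.structureModule P₁) 0) = 1) (hg1 : Curv2.genus k P₁ = 0)
    (h20 : Module.finrank k (Coh.HH P₂ (Coh.structureModule P₂) 0) = 1) (hg2 : Curv2.genus k P₂ = 0)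
    (f₁ : C ⟶ P₁) (hf₁ : f₁ ≫ (P₁ ↘ Spec (CommRingCat.of k)) = C ↘ Spec (CommRingCat.of k))
    [IsFinite f₁] [Flat f₁] (hr₁ : ∀ y : P₁, Scheme.Hom.finrank f₁ y = 2)
    (f₂ : C ⟶ P₂) (hf₂ : f₂ ≫ (P₂ ↘ Spec (CommRingCat.of k)) = C ↘ Spec (CommRingCat.of k))
    [IsFinite f₂] [Flat f₂] (hr₂ : ∀ y : P₂, Scheme.Hom.finrank f₂ y = 2) :
    ∃ e : P₁ ≅ P₂, e.hom ≫ (P₂ ↘ Spec (CommRingCat.of k)) = P₁ ↘ Spec (CommRingCat.of k) ∧ f₁ ≫ e.hom = f₂ := by
  haveI : LocallyOfFiniteType f₁ := inferInstance
  haveI : Surjective f₁ := f₁.one_le_finrank_iff_surjective.1 fun y => by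
    show 1 ≤ f₁.finrank y
    rw [hr₁]; norm_num
  haveI : Surjective f₂ := f₂.one_le_finrank_iff_surjective.1 fun y => by
    show 1 ≤ f₂.finrank y
    rw [hr₂]; norm_num
  have e₁ := GrothLib.HodgeProper12.genericPoint_eq_of_surjective f₁ f₁.surjective
  have e₂ := GrothLib.HodgeProper12.genericPoint_eq_of_surjective f₂ f₂.surjective
  obtain ⟨a1, b1, c1⟩ := double_cover_data k hC0 h10 hg1 f₁ hf₁ hr₁ e₁
  obtain ⟨a2, b2, c2⟩ := double_cover_data k hC0 h20 hg2 f₂ hf₂ hr₂ e₂
  have hKC := isFunctionField k hC0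
  have heq := genus_zero_subfield_unique hKC (by rw [← CurveRR.genus_eq k hC0]; exact hg) _ _ a1 a2 b1 b2 c1 c2
  let σ : P₂.functionField ≃ₐ[k] P₁.functionField :=
    (AlgEquiv.ofInjectiveField (ψAlg k hf₂ e₂)).trans
      ((IntermediateField.equivOfEq heq.symm).trans (AlgEquiv.ofInjectiveField (ψAlg k hf₁ e₁)).symm)
  obtain ⟨g, hg', eg, hψ⟩ := FFHom.exists_iso k (X := P₁) (Y := P₂) σ.toRingEquiv σ.commutes
  refine ⟨g, hg', FFHom.hom_ext (P₂ ↘ Spec (CommRingCat.of k)) (by rw [Category.assoc, hg', hf₁, hf₂]) ?_⟩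
  rw [← Category.assoc, FFHom.fromSpecStalk_comp_eq e₁, Category.assoc, FFHom.fromSpecStalk_comp_eq eg,
    ← Category.assoc, ← Spec.map_comp, FFHom.fromSpecStalk_comp_eq e₂]
  congr 2
  rw [hψ]
  refine CommRingCat.hom_ext (RingHom.ext fun z => ?_)
  show (ψAlg k hf₁ e₁) (σ z) = (ψAlg k hf₂ e₂) z
  have hv : ∀ w, ((AlgEquiv.ofInjectiveField (ψAlg k hf₁ e₁) w : (ψAlg k hf₁ e₁).fieldRange) : C.functionField) =
      ψAlg k hf₁ e₁ w := fun _ => rfl
  rw [← hv]
  refine (congrArg Subtype.val (AlgEquiv.apply_symm_apply (AlgEquiv.ofInjectiveField (ψAlg k hf₁ e₁)) _)).trans ?_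
  rfl

end GrothLib.QuadSubfield28
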