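import Groth.Agent.Lib.GenusZeroSplit28.Main
import Groth.Agent.Lib.FunFld.QuadSubfield
import Groth.Agent.Lib.DiffLattice.Global

/-!
# A function field of genus at least two has at most one genus zero subfield of index two
-/

set_option autoImplicit false
set_option linter.style.haveILetI false
set_option linter.unusedSectionVars false
set_option synthInstance.maxHeartbeats 200000

namespace GrothLib.QuadSubfield28

open _root_.FunFld IntermediateField WithZero
open GrothLib.FunFld

universe u

variable {k K : Type u} [Field k] [Field K] [Algebra k K]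

theorem mem_L_conorm {L' : IntermediateField k K} [FiniteDimensional L' K] (h : IsFG k L') {A : Divisor k L'}
    {a : L'} (ha : a ∈ _root_.FunFld.L A) : (a : K) ∈ _root_.FunFld.L (conorm K A) := by
  refine (DiffLattice.mem_L_conorm_iff (K' := K) h).2 fun P Q hQ => ?_
  rw [show val Q (a : K) = val P a ^ ramIdx Q P from ramIdx_spec hQ a]
  refine (pow_le_pow_left' (ha P) _).trans_eq ?_
  rw [← exp_nsmul]
  simp

/-- A genus zero field has an effective divisor of degree two with three independent sections. -/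
theorem exists_deg_two {L' : Type u} [Field L'] [Algebra k L'] (h : IsFunctionField k L') (hg : genus k L' = 0) :
    ∃ A : Divisor k L', 0 ≤ A ∧ A.deg = 2 ∧ ell A = 3 := by
  have hfg : IsFG k L' := h.1
  obtain ⟨C, hC⟩ := exists_isCanonical h
  have hl := ell_canonical h hC
  have hd : (-C).deg = 2 := by rw [deg_neg, hl.2, hg]; rfl
  have hl0 : ell (-C) = 3 := by
    have := ell_eq_of_deg_ge h (D := -C) (by rw [hd, hg]; norm_num)
    rw [hd, hg] at this
    omega
  obtain ⟨w, hw0, -, hw⟩ := IsFG.exists_of_ell_pos hfg (D := -C) (by omega)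
  exact ⟨_, hw, by rw [deg_add, IsFG.deg_div hfg, hd, add_zero], by rw [IsFG.ell_add_div hfg _ hw0, hl0]⟩

/-- Sections from below times an element outside the subfield. -/
theorem two_mul_ell_le (hK : IsFunctionField k K) {L' : IntermediateField k K} [FiniteDimensional L' K]
    (hL : IsFunctionField k L') {y : K} (hy : y ∉ L') (A : Divisor k L') {E : Divisor k K} (hE : 0 ≤ E)
    (hyE : y ∈ _root_.FunFld.L E) : 2 * ell A ≤ ell (conorm K A + E) := by
  classical
  have hfg : IsFG k K := hK.1
  haveI := IsFG.finite_L (hL.1 : IsFG k L') A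
  haveI := IsFG.finite_L hfg (conorm K A + E)
  have hy0 : y ≠ 0 := fun h => hy (h ▸ zero_mem _)
  let b := Module.finBasis k (_root_.FunFld.L A)
  let e : Fin (ell A) → L' := fun i => (b i).1
  have he : LinearIndependent k fun i => ((e i : L') : K) :=
    (b.linearIndependent.map' (_root_.FunFld.L A).subtype (Submodule.ker_subtype _)).map' L'.val.toLinearMap
      (LinearMap.ker_eq_bot.2 L'.val.toRingHom.injective)
  let v : Fin (ell A) ⊕ Fin (ell A) → K := Sum.elim (fun i => ((e i : L') : K)) fun i => (e i : K) * y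
  have hli : LinearIndependent k v := by
    refine LinearIndependent.sum_type he
      (he.map' (LinearMap.mulRight k y) (LinearMap.ker_eq_bot.mpr fun a b h => mul_right_cancel₀ hy0 h)) ?_
    rw [Submodule.disjoint_def]
    intro z hz hz'
    have h1 : z ∈ L' := by
      refine (Submodule.span_le (p := L'.toSubalgebra.toSubmodule)).mpr ?_ hz
      rintro _ ⟨i, rfl⟩
      exact (e i).2
    have h2 : ∃ a ∈ L', z = a * y := by
      clear h1 hz
      induction hz' using Submodule.span_induction with
      | mem w hw =>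
        obtain ⟨i, rfl⟩ := hw
        exact ⟨_, (e i).2, rfl⟩
      | zero => exact ⟨0, zero_mem _, (zero_mul _).symm⟩
      | add a b _ _ iha ihb =>
        obtain ⟨a', ha', rfl⟩ := iha
        obtain ⟨b', hb', rfl⟩ := ihb
        exact ⟨a' + b', add_mem ha' hb', (add_mul _ _ _).symm⟩
      | smul c a _ iha =>
        obtain ⟨a', ha', rfl⟩ := iha
        exact ⟨c • a', IntermediateField.smul_mem _ ha', (smul_mul_assoc _ _ _).symm⟩
    obtain ⟨a, ha, rfl⟩ := h2
    by_contra hne
    refine hy ?_
    have ha0 : a ≠ 0 := left_ne_zero_of_mul hne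
    have h3 := mul_mem (inv_mem ha) h1
    rwa [inv_mul_cancel_left₀ ha0] at h3
  have hmem : ∀ j, v j ∈ _root_.FunFld.L (conorm K A + E) := by
    rintro (i | i)
    · exact L_mono (le_add_of_nonneg_right hE) (mem_L_conorm hL.1 (b i).2)
    · intro P
      show val P ((e i : K) * y) ≤ _
      rw [map_mul, Finsupp.add_apply, exp_add]
      exact mul_le_mul' (mem_L_conorm hL.1 (b i).2 P) (hyE P)
  have h1 : LinearIndependent k fun j => (⟨v j, hmem j⟩ : _root_.FunFld.L (conorm K A + E)) :=
    LinearIndependent.of_comp (_root_.FunFld.L (conorm K A + E)).subtype hli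
  have h2 := h1.fintype_card_le_finrank
  rw [Fintype.card_sum, Fintype.card_fin] at h2
  show 2 * ell A ≤ Module.finrank k (_root_.FunFld.L (conorm K A + E))
  omega

theorem genus_zero_subfield_unique (hK : IsFunctionField k K) (hg : 2 ≤ genus k K)
    (L₁ L₂ : IntermediateField k K) (h₁ : IsFunctionField k L₁) (h₂ : IsFunctionField k L₂)
    (g₁ : genus k L₁ = 0) (g₂ : genus k L₂ = 0)
    (d₁ : Module.finrank L₁ K = 2) (d₂ : Module.finrank L₂ K = 2) : L₁ = L₂ := by
  classical
  have hfg : IsFG k K := hK.1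
  haveI : FiniteDimensional L₁ K := Module.finite_of_finrank_pos (by omega)
  haveI : FiniteDimensional L₂ K := Module.finite_of_finrank_pos (by omega)
  obtain ⟨A₁, hA₁, hdA₁, hlA₁⟩ := exists_deg_two h₁ g₁
  obtain ⟨A₂, hA₂, hdA₂, hlA₂⟩ := exists_deg_two h₂ g₂
  have hconnonneg : ∀ (L' : IntermediateField k K) [FiniteDimensional L' K] (A : Divisor k L'),
      IsFG k L' → 0 ≤ A → 0 ≤ conorm K A := fun L' _ A h hA Q => by
    obtain ⟨P, e, -, he⟩ := exists_isOverWith (K := L') Q
    rw [conorm_apply h he]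
    exact mul_nonneg (by positivity) (hA P)
  by_cases hle : L₂ ≤ L₁
  · exact (IntermediateField.eq_of_le_of_finrank_le' hle (by omega)).symm
  exfalso
  haveI := IsFG.finite_L (h₂.1 : IsFG k L₂) A₂
  -- a section of the second pencil outside the first subfield
  obtain ⟨z, hz, hzn⟩ : ∃ z ∈ _root_.FunFld.L A₂, (z : K) ∉ L₁ := by
    by_contra hall
    push Not at hall
    let b : Fin 3 → _root_.FunFld.L A₂ := fun i => Module.finBasis k _ (Fin.cast hlA₂.symm i)
    let M : IntermediateField k L₂ := L₁.comap L₂.val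
    have hbM : ∀ i, (b i).1 ∈ M := fun i => hall _ (b i).2
    have hind : LinearIndependent k (fun i => (b i).1) :=
      ((Module.finBasis k (_root_.FunFld.L A₂)).linearIndependent.comp _ (Fin.cast_injective _)).map'
        (_root_.FunFld.L A₂).subtype (Submodule.ker_subtype _)
    obtain ⟨x, hx, hxt⟩ : ∃ x ∈ M, Transcendental k x := by
      by_contra hno
      push Not at hno
      have hc : ∀ i, (b i).1 ∈ (Submodule.span k {(1 : L₂)}) := fun i => by
        obtain ⟨c, hc⟩ := h₂.2 _ (not_not.1 (hno _ (hbM i)))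
        rw [← hc, Algebra.algebraMap_eq_smul_one]
        exact Submodule.smul_mem _ _ (Submodule.mem_span_singleton_self _)
      have h3 : LinearIndependent k fun i => (⟨(b i).1, hc i⟩ : Submodule.span k {(1 : L₂)}) :=
        LinearIndependent.of_comp (Submodule.span k {(1 : L₂)}).subtype hind
      have h4 := h3.fintype_card_le_finrank
      rw [finrank_span_singleton one_ne_zero, Fintype.card_fin] at h4
      omega
    obtain ⟨hM, hMfin⟩ := isFunctionField_intermediateField h₂ M ⟨x, hx, hxt⟩
    haveI := hMfin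
    have h2M : 2 ≤ Module.finrank M L₂ := by
      have hpos : 0 < Module.finrank M L₂ := Module.finrank_pos
      by_contra hlt
      refine hle fun w hw => ?_
      obtain ⟨c, hc⟩ := (finrank_eq_one_iff_of_nonzero' (1 : L₂) one_ne_zero).1 (by omega : Module.finrank M L₂ = 1) ⟨w, hw⟩
      have hc' : (c : L₂) = ⟨w, hw⟩ := by rw [← hc, Algebra.smul_def, mul_one]; rfl
      have := c.2
      rw [hc'] at this
      exact this
    exact GenusZeroSplit28.false_of_sections_from_below hM h2M (D := A₂) hdA₂.le
      (fun i => ⟨(b i).1, hbM i⟩) (LinearIndependent.of_comp M.val.toLinearMap hind) fun i => (b i).2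
  set B₂ := conorm K A₂ with hB₂
  have hB₂0 : 0 ≤ B₂ := hconnonneg L₂ A₂ h₂.1 hA₂
  have hzB : (z : K) ∈ _root_.FunFld.L B₂ := mem_L_conorm h₂.1 hz
  have hdB₂ : B₂.deg = 4 := by rw [hB₂, deg_conorm (h₂.1 : IsFG k L₂), d₂, hdA₂]; norm_num
  by_cases h4 : 4 ≤ genus k K
  · set m := genus k K
    have hdm : (m • A₁).deg = 2 * (m : ℤ) := by rw [deg_nsmul, hdA₁]; ring
    have hlm : (ell (m • A₁) : ℤ) = 2 * m + 1 := by
      rw [ell_eq_of_deg_ge h₁ (by rw [hdm, g₁]; omega), hdm, g₁]; ring
    have h5 := two_mul_ell_le hK h₁ hzn (m • A₁) hB₂0 hzB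
    have hd : (conorm K (m • A₁) + B₂).deg = 4 * (m : ℤ) + 4 := by
      rw [deg_add, deg_conorm (h₁.1 : IsFG k L₁), d₁, hdm, hdB₂]; push_cast; ring
    have h6 := ell_eq_of_deg_ge hK (D := conorm K (m • A₁) + B₂) (by rw [hd]; omega)
    rw [hd] at h6
    omega
  have hl4 : ∀ (L' : IntermediateField k K) [FiniteDimensional L' K] (A : Divisor k L'),
      IsFG k L' → ell A = 3 → 3 ≤ ell (conorm K A) := fun L' _ A h hA => by
    haveI := IsFG.finite_L h A
    haveI := IsFG.finite_L hfg (conorm K A)
    let f : _root_.FunFld.L A →ₗ[k] _root_.FunFld.L (conorm K A) :=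
      LinearMap.codRestrict _ (L'.val.toLinearMap.comp (_root_.FunFld.L A).subtype) fun a => mem_L_conorm h a.2
    have hf : Function.Injective f := fun a b hab => by
      have h := congrArg Subtype.val hab
      exact Subtype.ext (L'.val.toRingHom.injective h)
    exact hA ▸ LinearMap.finrank_le_finrank_of_injective hf
  set B₁ := conorm K A₁ with hB₁
  have hB₁0 : 0 ≤ B₁ := hconnonneg L₁ A₁ h₁.1 hA₁
  have hdB₁ : B₁.deg = 4 := by rw [hB₁, deg_conorm (h₁.1 : IsFG k L₁), d₁, hdA₁]; norm_num
  obtain ⟨C₀, hC₀⟩ := exists_isCanonical hK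
  have hcan := ell_canonical hK hC₀
  haveI := IsFG.finite_L hfg B₁
  by_cases h3 : genus k K = 3
  · -- both pencils give the canonical class
    have e1 : ell B₁ = 3 := by
      have hrr := riemann_roch' hK hC₀ B₁
      have hge : 3 ≤ ell B₁ := hl4 L₁ A₁ h₁.1 hlA₁
      have hneg := ell_le_deg_succ hK (C₀ - B₁) (by rw [deg_sub, hdB₁, hcan.2, h3]; norm_num)
      rw [deg_sub, hdB₁, hcan.2, h3] at hneg
      rw [hdB₁, h3] at hrr
      omega
    have c1 : IsCanonical k K B₁ := isCanonical_of_ell_deg hK (by rw [e1, h3]) (by rw [hdB₁, h3]; norm_num)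
    have hrr := riemann_roch' hK c1 B₂
    have h7 : 3 ≤ ell B₂ := hl4 L₂ A₂ h₂.1 hlA₂
    rw [hdB₂, h3] at hrr
    obtain ⟨w, hw0, -, hw⟩ := IsFG.exists_of_ell_pos hfg (D := B₁ - B₂) (by omega)
    have hw' : B₁ - B₂ + _root_.FunFld.div k w = 0 := by
      by_contra hne
      obtain ⟨P, hP⟩ := exists_single_le hw hne
      have h8 := deg_nonneg (sub_nonneg.2 hP)
      rw [deg_sub, deg_add, IsFG.deg_div hfg, deg_sub, hdB₁, hdB₂, deg_single, one_mul] at h8
      have h9 := IsFG.deg_pos hfg P
      omega
    -- every section of the first class lies in the first subfield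
    have hsub : ∀ x ∈ _root_.FunFld.L B₁, x ∈ L₁ := by
      let f : _root_.FunFld.L A₁ →ₗ[k] _root_.FunFld.L B₁ :=
        LinearMap.codRestrict _ (L₁.val.toLinearMap.comp (_root_.FunFld.L A₁).subtype)
          fun a => mem_L_conorm h₁.1 a.2
      haveI := IsFG.finite_L (h₁.1 : IsFG k L₁) A₁
      have hf : Function.Injective f := fun a b hab => by
        have h := congrArg Subtype.val hab
        exact Subtype.ext (L₁.val.toRingHom.injective h)
      have hfs : Function.Surjective f :=
        (LinearMap.injective_iff_surjective_of_finrank_eq_finrank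
          (show Module.finrank k (_root_.FunFld.L A₁) = Module.finrank k (_root_.FunFld.L B₁) from hlA₁.trans e1.symm)).1 hf
      intro x hx
      obtain ⟨a, ha⟩ := hfs ⟨x, hx⟩
      have : x = ((a : L₁) : K) := (congrArg Subtype.val ha).symm
      rw [this]; exact (a : L₁).2
    have hshift : ∀ x ∈ _root_.FunFld.L B₂, w * x ∈ _root_.FunFld.L B₁ := fun x hx => by
      by_cases hx0 : x = 0
      · rw [hx0, mul_zero]; exact zero_mem _
      rw [mem_L_iff_ord (mul_ne_zero hw0 hx0)]
      intro P
      have h1 := (mem_L_iff_ord hx0).1 hx P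
      have h2 := DFunLike.congr_fun hw' P
      rw [Finsupp.add_apply, Finsupp.sub_apply, hfg.div_apply, Finsupp.zero_apply] at h2
      rw [ord_mul P hw0 hx0]
      omega
    have h1mem : (1 : K) ∈ _root_.FunFld.L B₂ := by
      rw [mem_L_iff_ord one_ne_zero]
      intro P
      rw [ord_one]
      have : (0 : ℤ) ≤ B₂ P := hB₂0 P
      omega
    have hwL : w ∈ L₁ := hsub _ (by simpa using hshift 1 h1mem)
    refine hzn ?_
    have := mul_mem (inv_mem hwL) (hsub _ (hshift _ hzB))
    rwa [inv_mul_cancel_left₀ hw0] at this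
  -- genus two: the canonical pencil lies in both subfields
  have hg2 : genus k K = 2 := by omega
  obtain ⟨w, hw0, -, hC⟩ := IsFG.exists_of_ell_pos hfg (D := C₀) (by rw [hcan.1]; omega)
  set C := C₀ + _root_.FunFld.div k w with hCdef
  have hdC : C.deg = 2 := by rw [hCdef, deg_add, IsFG.deg_div hfg, hcan.2, hg2, add_zero]; norm_num
  have hlC : ell C = 2 := by rw [hCdef, IsFG.ell_add_div hfg _ hw0, hcan.1, hg2]
  haveI := IsFG.finite_L hfg C
  obtain ⟨x, hxC, hxt⟩ : ∃ x ∈ _root_.FunFld.L C, Transcendental k x := by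
    by_contra hno
    push Not at hno
    have hle' : _root_.FunFld.L C ≤ Submodule.span k {(1 : K)} := fun x hx => by
      obtain ⟨c, hc⟩ := hK.2 x (not_not.1 (hno x hx))
      rw [← hc, Algebra.algebraMap_eq_smul_one]
      exact Submodule.smul_mem _ _ (Submodule.mem_span_singleton_self _)
    have h9 : Module.finrank k (_root_.FunFld.L C) ≤ Module.finrank k (Submodule.span k {(1 : K)}) :=
      Submodule.finrank_mono hle'
    rw [finrank_span_singleton one_ne_zero] at h9
    simp only [ell] at hlC
    omega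
  have hin : ∀ (L' : IntermediateField k K) [FiniteDimensional L' K], IsFunctionField k L' →
      Module.finrank L' K = 2 → ∀ A : Divisor k L', A.deg = 2 → ell A = 3 → x ∈ L' := fun L' _ h d A hd hl => by
    by_contra hx
    have h5 := two_mul_ell_le hK h hx A hC hxC
    have hdd : (conorm K A + C).deg = 6 := by rw [deg_add, deg_conorm (h.1 : IsFG k L'), d, hd, hdC]; norm_num
    have h6 := ell_eq_of_deg_ge hK (D := conorm K A + C) (by rw [hdd, hg2]; norm_num)
    rw [hdd, hg2, hl] at *
    omega
  have hpole : (poleDiv (k := k) x).deg ≤ 2 := by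
    have hx0 : x ≠ 0 := fun h => hxt (h ▸ isAlgebraic_zero)
    have hple : poleDiv (k := k) x ≤ C := fun P => by
      rw [IsFG.poleDiv_apply hfg]
      have := (mem_L_iff_ord hx0).1 hxC P
      have : (0 : ℤ) ≤ C P := hC P
      omega
    have := deg_nonneg (sub_nonneg.2 hple)
    rw [deg_sub, hdC] at this
    omega
  rw [IsFG.deg_poleDiv hfg hxt] at hpole
  haveI := IsFG.finiteDimensional_adjoin hfg hxt
  have e₁ := IntermediateField.eq_of_le_of_finrank_le'
    (adjoin_simple_le_iff.2 (hin L₁ h₁ d₁ A₁ hdA₁ hlA₁)) (by omega)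
  have e₂ := IntermediateField.eq_of_le_of_finrank_le'
    (adjoin_simple_le_iff.2 (hin L₂ h₂ d₂ A₂ hdA₂ hlA₂)) (by omega)
  exact hle (e₂ ▸ e₁.le)

end GrothLib.QuadSubfield28
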